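import Mathlib
import Groth.Agent.NormalSch.Basic
import Groth.Agent.FinCondEasy.Components
import Groth.Agent.CompTopLib.Basic
import Groth.Agent.RootCoverLib.Conn
import Groth.Agent.S2102
import Groth.Agent.Normaliz.Basic
import Groth.Prelude.Def_Pi1

/-!
Normality descends along morphisms with `O_Y = f_* O_X`.
-/

set_option autoImplicit false
set_option backward.isDefEq.respectTransparency false
universe u

open CategoryTheory AlgebraicGeometry TopologicalSpace

namespace Groth.Agent.NormalFibLib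

/-- A connected Noetherian normal scheme is integral. -/
theorem isIntegral_of_connected (X : Scheme.{u}) [IsNoetherian X] [ConnectedSpace X]
    (hX : Pi1.IsNormalScheme X) : IsIntegral X := by
  haveI : IrreducibleSpace X := by
    have hd : (irreducibleComponents (X : Type u)).PairwiseDisjoint id :=
      (Groth.Agent.FinCondEasy.pairwiseDisjoint_iff X).2 fun x => by
        haveI := (hX x).1
        rw [nilradical_eq_zero]
        exact Ideal.isPrime_bot
    obtain ⟨x⟩ := (inferInstance : Nonempty X)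
    have ho : IsOpen (irreducibleComponent x) :=
      Groth.Agent.CompTopLib.isOpen_of_disjoint (fun A hA B hB hne => hd hA hB hne)
        (fun _ => ⟨Set.univ, isOpen_univ, trivial,
          (TopologicalSpace.NoetherianSpace.finite_irreducibleComponents (α := X)).subset fun A hA => hA.1⟩)
        (irreducibleComponent_mem_irreducibleComponents x)
    have hu := IsClopen.eq_univ ⟨isClosed_irreducibleComponent, ho⟩ ⟨x, mem_irreducibleComponent⟩
    have hi := (isIrreducible_irreducibleComponent (x := x))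
    rw [hu] at hi
    exact (irreducibleSpace_def _).2 hi
  haveI : ∀ x : X, _root_.IsReduced (X.presheaf.stalk x) := fun x => by
    haveI := (hX x).1
    infer_instance
  haveI := isReduced_of_isReduced_stalk X
  exact isIntegral_of_irreducibleSpace_of_isReduced X

theorem isNormalScheme_of_isOpenImmersion {U X : Scheme.{u}} (j : U ⟶ X) [IsOpenImmersion j]
    (hX : Pi1.IsNormalScheme X) : Pi1.IsNormalScheme U := fun u => by
  let e := (asIso (j.stalkMap u)).commRingCatIsoToRingEquiv
  haveI := (hX (j u)).1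
  haveI := (hX (j u)).2
  exact ⟨e.symm.injective.isDomain, IsIntegrallyClosed.of_equiv e⟩

/-- Idempotents of a ring with connected spectrum are trivial. -/
theorem idem_trivial {R : Type u} [CommRing R] [PreconnectedSpace (PrimeSpectrum R)] {e : R}
    (he : IsIdempotentElem e) : e = 0 ∨ e = 1 := by
  have hc : IsClopen (PrimeSpectrum.basicOpen e : Set (PrimeSpectrum R)) :=
    PrimeSpectrum.isClopen_basicOpen_of_mul_add e (1 - e) (by rw [mul_sub, mul_one, he.eq, sub_self]) (by ring)
  rcases isClopen_iff.1 hc with h | h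
  · exact Or.inl (PrimeSpectrum.basicOpen_injOn_isIdempotentElem he IsIdempotentElem.zero
      (SetLike.ext' (by rw [h, PrimeSpectrum.basicOpen_zero]; rfl)))
  · exact Or.inr (PrimeSpectrum.basicOpen_injOn_isIdempotentElem he IsIdempotentElem.one
      (SetLike.ext' (by rw [h, PrimeSpectrum.basicOpen_one]; rfl)))

/-- Every point of a scheme with Noetherian topology has a connected affine open neighbourhood. -/
theorem exists_connected_affine {Y : Scheme.{u}} [NoetherianSpace Y] (y : Y) :
    ∃ C : Y.Opens, IsAffineOpen C ∧ y ∈ C ∧ PreconnectedSpace (PrimeSpectrum Γ(Y, C)) := by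
  obtain ⟨V, hV, hyV, -⟩ := exists_isAffineOpen_mem_and_subset (X := Y) (x := y) (U := ⊤) trivial
  haveI : NoetherianSpace V := NoetherianSpace.set (V : Set Y)
  let S : Set (Closeds V) := {C | IsOpen (C : Set V) ∧ (⟨y, hyV⟩ : V) ∈ C}
  obtain ⟨C, ⟨hCo, hyC⟩, hmin⟩ := (wellFounded_lt (α := Closeds V)).has_min S ⟨⊤, isOpen_univ, trivial⟩
  have hCclopen : IsClopen (C : Set V) := ⟨C.2, hCo⟩
  let W : Y.Opens := V.ι ''ᵁ ⟨(C : Set V), hCo⟩
  have hW : IsAffineOpen W := by
    haveI : IsAffine (V : Scheme.{u}) := hV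
    let C' : (V : Scheme.{u}).Opens := ⟨(C : Set V), hCo⟩
    haveI : IsClosedImmersion C'.ι :=
      IsClosedImmersion.of_isPreimmersion C'.ι (by rw [Scheme.Opens.range_ι]; exact C.2)
    exact IsAffineOpen.image_of_isOpenImmersion (show IsAffineOpen C' from isAffine_of_isAffineHom C'.ι) V.ι
  have hWset : (W : Set Y) = (fun v : V => (v : Y)) '' (C : Set V) := rfl
  refine ⟨W, hW, ⟨⟨y, hyV⟩, hyC, rfl⟩, ?_⟩
  have hpre : _root_.IsPreconnected (C : Set V) := by
    rw [isPreconnected_iff_subset_of_disjoint]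
    intro u v hu hv hcov hdisj
    have hclu : IsClosed ((C : Set V) ∩ u) := by
      have : (C : Set V) ∩ u = (C : Set V) \ v := by
        ext z
        refine ⟨fun hz => ⟨hz.1, fun hzv => ?_⟩, fun hz => ⟨hz.1, (hcov hz.1).resolve_right hz.2⟩⟩
        exact (Set.eq_empty_iff_forall_notMem.1 hdisj z) ⟨hz.1, hz.2, hzv⟩
      rw [this]; exact C.2.sdiff hv
    have hclv : IsClosed ((C : Set V) ∩ v) := by
      have : (C : Set V) ∩ v = (C : Set V) \ u := by
        ext z
        refine ⟨fun hz => ⟨hz.1, fun hzu => ?_⟩, fun hz => ⟨hz.1, (hcov hz.1).resolve_left hz.2⟩⟩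
        exact (Set.eq_empty_iff_forall_notMem.1 hdisj z) ⟨hz.1, hzu, hz.2⟩
      rw [this]; exact C.2.sdiff hu
    rcases hcov hyC with hy | hy
    · left
      intro z hz
      by_contra hzu
      exact hmin ⟨(C : Set V) ∩ u, hclu⟩ ⟨hCo.inter hu, hyC, hy⟩
        (lt_of_le_of_ne (fun w hw => hw.1) fun h => hzu ((SetLike.ext_iff.1 h z).2 hz).2)
    · right
      intro z hz
      by_contra hzv
      exact hmin ⟨(C : Set V) ∩ v, hclv⟩ ⟨hCo.inter hv, hyC, hy⟩
        (lt_of_le_of_ne (fun w hw => hw.1) fun h => hzv ((SetLike.ext_iff.1 h z).2 hz).2)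
  have hWpre : _root_.IsPreconnected (W : Set Y) := hWset ▸ hpre.image _ continuous_subtype_val.continuousOn
  haveI : PreconnectedSpace W := Subtype.preconnectedSpace hWpre
  exact hW.isoSpec.hom.homeomorph.surjective.denseRange.preconnectedSpace hW.isoSpec.hom.continuous

/-- If `X` is Noetherian normal and `O_Y → f_* O_X` is an isomorphism, then `Y` is normal. -/
theorem isNormalScheme_of_app_isIso {X Y : Scheme.{u}} [IsNoetherian X] [NoetherianSpace Y] (f : X ⟶ Y)
    (hfib : ∀ V : Y.Opens, IsIso (f.app V)) (hX : Pi1.IsNormalScheme X) : Pi1.IsNormalScheme Y := by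
  intro y
  obtain ⟨C, hC, hyC, hpc⟩ := exists_connected_affine y
  let W : Scheme.{u} := ↑(f ⁻¹ᵁ C)
  haveI := hfib C
  let e : Γ(Y, C) ≃+* Γ(W, ⊤) := (asIso (f.app C) ≪≫ (f ⁻¹ᵁ C).topIso.symm).commRingCatIsoToRingEquiv
  haveI : Nonempty C := ⟨⟨y, hyC⟩⟩
  haveI hne : Nonempty W := by
    by_contra hc
    rw [not_nonempty_iff] at hc
    haveI : Subsingleton Γ(W, ⊤) := by
      rw [show (⊤ : W.Opens) = ⊥ from Opens.ext (Set.eq_empty_of_isEmpty _)]
      infer_instance
    haveI : Subsingleton Γ(Y, C) := e.injective.subsingleton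
    exact false_of_nontrivial_of_subsingleton Γ(Y, C)
  haveI : ConnectedSpace W := RootCoverLib.connectedSpace_of_idem fun a ha =>
    (idem_trivial (ha.map e.symm)).imp (fun h => by simpa using congrArg e h) (fun h => by simpa using congrArg e h)
  have hW : Pi1.IsNormalScheme W := isNormalScheme_of_isOpenImmersion (f ⁻¹ᵁ C).ι hX
  haveI : CompactSpace W := isCompact_iff_compactSpace.1 (NoetherianSpace.isCompact (α := X) _)
  haveI : IsNoetherian W := ⟨⟩
  haveI := isIntegral_of_connected W hW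
  haveI := S2102.result W hW
  haveI : IsDomain Γ(Y, C) := e.injective.isDomain
  haveI : IsIntegrallyClosed Γ(Y, C) := IsIntegrallyClosed.of_equiv e.symm
  letI := TopCat.Presheaf.algebra_section_stalk Y.presheaf ⟨y, hyC⟩
  haveI : IsLocalization.AtPrime (Y.presheaf.stalk y) (hC.primeIdealOf ⟨y, hyC⟩).asIdeal :=
    hC.isLocalization_stalk ⟨y, hyC⟩
  have hle := (hC.primeIdealOf ⟨y, hyC⟩).asIdeal.primeCompl_le_nonZeroDivisors
  exact ⟨IsLocalization.isDomain_of_le_nonZeroDivisors _ hle, isIntegrallyClosed_of_isLocalization _ _ hle⟩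

end Groth.Agent.NormalFibLib

namespace Groth.Agent.NormalFibLib

open Limits in
/-- `O_Y = f_* O_X` is stable under flat base change, for `f` quasi-compact and quasi-separated. -/
theorem isIso_app_of_flat_baseChange {X Y X' Y' : Scheme.{u}} {f : X ⟶ Y} {π : Y' ⟶ Y} {g : X' ⟶ X}
    {f' : X' ⟶ Y'} (H : IsPullback g f' f π) [Flat π] [QuasiCompact f] [QuasiSeparated f]
    (hfib : ∀ V : Y.Opens, IsAffineOpen V → IsIso (f.app V)) (U : Y'.Opens) : IsIso (f'.app U) := by
  let B : Set Y'.Opens := {C | IsAffineOpen C ∧ ∃ V : Y.Opens, IsAffineOpen V ∧ C ≤ π ⁻¹ᵁ V}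
  have hB : Opens.IsBasis B := by
    rw [Opens.isBasis_iff_nbhd]
    intro W y hy
    obtain ⟨V, hV, hyV, -⟩ := exists_isAffineOpen_mem_and_subset (X := Y) (x := π y) (U := ⊤) trivial
    obtain ⟨C, hC, hyC, hCW⟩ := exists_isAffineOpen_mem_and_subset (X := Y') (x := y) (U := W ⊓ π ⁻¹ᵁ V) ⟨hy, hyV⟩
    exact ⟨C, ⟨hC, V, hV, fun z hz => (hCW hz).2⟩, hyC, fun z hz => (hCW hz).1⟩
  refine NormalizationLemmas.isIso_app_of_isBasis f' hB ?_ U
  rintro C ⟨hC, V, hV, hCV⟩
  have hle : f' ⁻¹ᵁ C ≤ g ⁻¹ᵁ (f ⁻¹ᵁ V) := by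
    rw [← Scheme.Hom.comp_preimage, H.w, Scheme.Hom.comp_preimage]
    exact fun z hz => hCV hz
  have hUY : f' ⁻¹ᵁ C = g ⁻¹ᵁ (f ⁻¹ᵁ V) ⊓ f' ⁻¹ᵁ C := (inf_eq_right.2 hle).symm
  haveI : IsIso (pushoutSection H hCV (le_refl (f ⁻¹ᵁ V)) hUY) :=
    isIso_pushoutSection_of_isQuasiSeparated_of_flat_right H hCV le_rfl hUY hV hC
      (f.isCompact_preimage hV.isCompact) (f.isQuasiSeparated_preimage hV.isQuasiSeparated)
  have hpo := (isIso_pushoutSection_iff H hCV (le_refl (f ⁻¹ᵁ V)) hUY).1 inferInstance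
  haveI := hfib V hV
  haveI : IsIso (f.appLE V (f ⁻¹ᵁ V) le_rfl) := by rw [← Scheme.Hom.app_eq_appLE]; infer_instance
  haveI : IsIso (f'.appLE C (f' ⁻¹ᵁ C) le_rfl) := hpo.isIso_inr_of_isIso
  rw [Scheme.Hom.app_eq_appLE]
  infer_instance

end Groth.Agent.NormalFibLib

namespace Groth.Agent.NormalFibLib

open Limits in
/-- The map induced on base changes is a base change. -/
theorem isPullback_map {X Y S T : Scheme.{u}} (f : X ⟶ Y) (p : Y ⟶ S) (q : X ⟶ S) (hf : f ≫ p = q) (t : T ⟶ S) :
    IsPullback (pullback.fst q t) (pullback.map q t p t f (𝟙 T) (𝟙 S) (by simp [hf]) (by simp))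
      f (pullback.fst p t) := by
  subst hf
  refine IsPullback.of_bot ?_ (pullback.lift_fst _ _ _).symm (IsPullback.of_hasPullback p t)
  rw [pullback.lift_snd, Category.comp_id]
  exact IsPullback.of_hasPullback (f ≫ p) t

/-- A closed map with `O_Y = f_* O_X` is surjective. -/
theorem surjective_of_app_isIso {X Y : Scheme.{u}} (f : X ⟶ Y) [UniversallyClosed f]
    (hfib : ∀ V : Y.Opens, IsIso (f.app V)) : Surjective f := by
  refine ⟨fun y => ?_⟩
  by_contra hy
  let W : Y.Opens := ⟨(Set.range f)ᶜ, f.isClosedMap.isClosed_range.isOpen_compl⟩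
  haveI := hfib W
  haveI : Subsingleton Γ(X, f ⁻¹ᵁ W) := by
    rw [show f ⁻¹ᵁ W = ⊥ from Opens.ext (Set.eq_empty_iff_forall_notMem.2 fun x hx => hx ⟨x, rfl⟩)]
    infer_instance
  haveI : Subsingleton Γ(Y, W) := (ConcreteCategory.bijective_of_isIso (f.app W)).1.subsingleton
  haveI : Nonempty W := ⟨⟨y, hy⟩⟩
  exact false_of_nontrivial_of_subsingleton Γ(Y, W)

/-- If `X` is integral, `f` is closed and `O_Y = f_* O_X`, then `Y` is integral. -/
theorem isIntegral_of_app_isIso {X Y : Scheme.{u}} (f : X ⟶ Y) [UniversallyClosed f] [IsIntegral X]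
    (hfib : ∀ V : Y.Opens, IsIso (f.app V)) : IsIntegral Y := by
  haveI := surjective_of_app_isIso f hfib
  haveI : AlgebraicGeometry.IsReduced Y := ⟨fun U => by
    haveI := hfib U
    exact isReduced_of_injective (f.app U).hom (ConcreteCategory.bijective_of_isIso (f.app U)).1⟩
  haveI : IrreducibleSpace Y := by
    refine (irreducibleSpace_def _).2 ?_
    rw [Set.top_eq_univ, ← f.surjective.range_eq, ← Set.image_univ]
    exact (IrreducibleSpace.isIrreducible_univ _).image f f.continuous.continuousOn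
  exact isIntegral_of_irreducibleSpace_of_isReduced Y

end Groth.Agent.NormalFibLib
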